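import Groth.Agent.WeilAff.Scheme
import Mathlib.RingTheory.RingHom.FinitePresentation
import Mathlib.AlgebraicGeometry.Morphisms.FinitePresentation

/-!
# The counit and functoriality of the Weil restriction: smooth and surjective
-/

universe u

open CategoryTheory CategoryTheory.Limits AlgebraicGeometry TensorProduct

set_option backward.isDefEq.respectTransparency false
set_option backward.isDefEq.respectTransparency.types false

namespace Groth.Agent.WeilAff

variable {B B' : Type u} [CommRing B] [CommRing B'] [Algebra B B']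

theorem smooth_spec {A C : Type u} [CommRing A] [CommRing C] (f : A →+* C) :
    Smooth (Spec.map (CommRingCat.ofHom f)) ↔ (letI := f.toAlgebra; Algebra.Smooth A C) :=
  HasRingHomProperty.Spec_iff (P := @Smooth)

theorem surjective_spec {A C : Type u} [CommRing A] [CommRing C] (f : A →+* C) :
    Surjective (Spec.map (CommRingCat.ofHom f)) ↔ Function.Surjective (PrimeSpectrum.comap f) :=
  surjective_iff _

theorem smooth_S {X' : Over (Spec (CommRingCat.of B'))} {O : Type u} [CommRing O] [Algebra B' O]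
    (iX : X' ≅ S B' O) [Smooth X'.hom] : Algebra.Smooth B' O := by
  haveI : IsIso iX.inv.left := inferInstanceAs (IsIso ((Over.forget _).map iX.inv))
  have h : Smooth (Spec.map (CommRingCat.ofHom (algebraMap B' O))) := by
    rw [show Spec.map (CommRingCat.ofHom (algebraMap B' O)) = iX.inv.left ≫ X'.hom from (Over.w iX.inv).symm]
    infer_instance
  exact RingHom.smooth_algebraMap.1 ((HasRingHomProperty.Spec_iff (P := @Smooth)).1 h)

variable [IsNoetherianRing B'] [Module.Finite B B'] [Module.Projective B B']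

theorem finitePresentation_S {X' : Over (Spec (CommRingCat.of B'))} {O : Type u} [CommRing O] [Algebra B' O]
    (iX : X' ≅ S B' O) [LocallyOfFiniteType X'.hom] : Algebra.FinitePresentation B' O := by
  haveI : IsIso iX.inv.left := inferInstanceAs (IsIso ((Over.forget _).map iX.inv))
  have h : LocallyOfFiniteType (Spec.map (CommRingCat.ofHom (algebraMap B' O))) := by
    rw [show Spec.map (CommRingCat.ofHom (algebraMap B' O)) = iX.inv.left ≫ X'.hom from (Over.w iX.inv).symm]
    infer_instance
  have h' : (algebraMap B' O).FiniteType := (HasRingHomProperty.Spec_iff (P := @LocallyOfFiniteType)).1 h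
  haveI : Algebra.FiniteType B' O := RingHom.finiteType_algebraMap.1 h'
  exact Algebra.FinitePresentation.of_finiteType.1 inferInstance

/-- The counit of a Weil restriction of an affine smooth surjective scheme is smooth and surjective. -/
theorem counit_smooth_surjective (X' : Over (Spec (CommRingCat.of B'))) [IsAffine X'.left]
    [LocallyOfFiniteType X'.hom] [Smooth X'.hom] [Surjective X'.hom]
    (R : Over (Spec (CommRingCat.of B)))
    (e : ∀ Y : Over (Spec (CommRingCat.of B)), (Y ⟶ R) ≃ ((Over.pullback (sig B B')).obj Y ⟶ X'))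
    (he : ∀ (Y Z : Over (Spec (CommRingCat.of B))) (h : Y ⟶ Z) (g : Z ⟶ R),
      e Y (h ≫ g) = (Over.pullback (sig B B')).map h ≫ e Z g) :
    Smooth (e R (𝟙 R)).left ∧ Surjective (e R (𝟙 R)).left := by
  obtain ⟨O, _, _, ⟨iX⟩⟩ := exists_coord X'
  haveI := smooth_S iX
  haveI := finitePresentation_S iX
  obtain ⟨Q, _, _, hQ, univ, hu, iR, hiR⟩ := exists_rep iX R e he
  have hsurjO : Function.Surjective (PrimeSpectrum.comap (algebraMap B' O)) := by
    rw [← surjective_spec, show Spec.map (CommRingCat.ofHom (algebraMap B' O)) = iX.inv.left ≫ X'.hom from (Over.w iX.inv).symm]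
    haveI : IsIso iX.inv.left := inferInstanceAs (IsIso ((Over.forget _).map iX.inv))
    infer_instance
  let F := Over.pullback (sig B B')
  have heq : e R (𝟙 R) = F.map iR.hom ≫ pt Q univ ≫ iX.inv := by
    rw [← hiR, ← he, Iso.hom_inv_id]
  haveI : IsIso (F.map iR.hom).left := inferInstanceAs (IsIso ((Over.forget _).map (F.map iR.hom)))
  haveI : IsIso iX.inv.left := inferInstanceAs (IsIso ((Over.forget _).map iX.inv))
  have hs : Smooth (Spec.map (CommRingCat.ofHom univ.toRingHom)) := by
    rw [smooth_spec]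
    letI := univ.toRingHom.toAlgebra
    haveI : IsScalarTower B' O (B' ⊗[B] Q) := IsScalarTower.of_algebraMap_eq fun b => (univ.commutes b).symm
    exact ⟨formallySmooth_counit univ hu, Algebra.FinitePresentation.of_restrict_scalars_finitePresentation B' O _⟩
  have hsu : Surjective (Spec.map (CommRingCat.ofHom univ.toRingHom)) :=
    (surjective_spec _).2 (surjective_comap_counit univ hsurjO hu)
  have hl : (e R (𝟙 R)).left =
      (F.map iR.hom).left ≫ ((β (B' := B') Q).hom ≫ Spec.map (CommRingCat.ofHom univ.toRingHom)) ≫ iX.inv.left := by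
    rw [heq]; rfl
  rw [hl]
  exact ⟨inferInstance, inferInstance⟩

/-- Weil restriction preserves smooth surjections of affine schemes. -/
theorem map_smooth_surjective (X' Y' : Over (Spec (CommRingCat.of B'))) [IsAffine X'.left] [LocallyOfFiniteType X'.hom]
    [IsAffine Y'.left] [LocallyOfFiniteType Y'.hom] (f' : X' ⟶ Y') [Smooth f'.left] [Surjective f'.left]
    (RX RY : Over (Spec (CommRingCat.of B)))
    (eX : ∀ Z : Over (Spec (CommRingCat.of B)), (Z ⟶ RX) ≃ ((Over.pullback (sig B B')).obj Z ⟶ X'))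
    (heX : ∀ (Z W : Over (Spec (CommRingCat.of B))) (h : Z ⟶ W) (g : W ⟶ RX),
      eX Z (h ≫ g) = (Over.pullback (sig B B')).map h ≫ eX W g)
    (eY : ∀ Z : Over (Spec (CommRingCat.of B)), (Z ⟶ RY) ≃ ((Over.pullback (sig B B')).obj Z ⟶ Y'))
    (heY : ∀ (Z W : Over (Spec (CommRingCat.of B))) (h : Z ⟶ W) (g : W ⟶ RY),
      eY Z (h ≫ g) = (Over.pullback (sig B B')).map h ≫ eY W g) :
    Smooth ((eY RX).symm (eX RX (𝟙 RX) ≫ f')).left ∧
      Surjective ((eY RX).symm (eX RX (𝟙 RX) ≫ f')).left := by
  obtain ⟨O₁, _, _, ⟨iX⟩⟩ := exists_coord X'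
  obtain ⟨O, _, _, ⟨iY⟩⟩ := exists_coord Y'
  haveI := finitePresentation_S iX
  haveI := finitePresentation_S iY
  obtain ⟨Q₁, _, _, hQ₁, univ₁, hu₁, iRX, hiRX⟩ := exists_rep iX RX eX heX
  obtain ⟨Q, _, _, hQ, univ, hu, iRY, hiRY⟩ := exists_rep iY RY eY heY
  obtain ⟨α, hα⟩ := exists_eq_Sm (iX.inv ≫ f' ≫ iY.hom)
  letI : Algebra O O₁ := α.toRingHom.toAlgebra
  haveI : IsScalarTower B' O O₁ := IsScalarTower.of_algebraMap_eq fun b => (α.commutes b).symm
  haveI : IsIso iX.inv.left := inferInstanceAs (IsIso ((Over.forget _).map iX.inv))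
  haveI : IsIso iY.hom.left := inferInstanceAs (IsIso ((Over.forget _).map iY.hom))
  haveI : IsIso iRX.hom.left := inferInstanceAs (IsIso ((Over.forget _).map iRX.hom))
  haveI : IsIso iRY.inv.left := inferInstanceAs (IsIso ((Over.forget _).map iRY.inv))
  have hαl : Spec.map (CommRingCat.ofHom α.toRingHom) = iX.inv.left ≫ f'.left ≫ iY.hom.left :=
    (congrArg CommaMorphism.left hα).symm
  haveI : Algebra.Smooth O O₁ := by
    have h : Smooth (Spec.map (CommRingCat.ofHom α.toRingHom)) := by rw [hαl]; infer_instance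
    exact (smooth_spec _).1 h
  have hsurj : Function.Surjective (PrimeSpectrum.comap (algebraMap O O₁)) := by
    refine (surjective_spec α.toRingHom).1 ?_
    rw [hαl]; infer_instance
  obtain ⟨φ, hφ, -⟩ := hu Q₁ (univ₁.comp α)
  let g : RX ⟶ RY := iRX.hom ≫ Sm φ ≫ iRY.inv
  have hg : g = (eY RX).symm (eX RX (𝟙 RX) ≫ f') := by
    rw [Equiv.eq_symm_apply, show (𝟙 RX) = iRX.hom ≫ iRX.inv from iRX.hom_inv_id.symm, heX, hiRX, heY, heY, hiRY,
      ← Category.assoc ((Over.pullback (sig B B')).map (Sm φ)), map_pt, hφ, ← pt_comp, ← hα]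
    simp only [Category.assoc, Iso.hom_inv_id, Category.comp_id]
  rw [← hg]
  letI : Algebra Q Q₁ := φ.toRingHom.toAlgebra
  haveI : IsScalarTower B Q Q₁ := IsScalarTower.of_algebraMap_eq fun b => (φ.commutes b).symm
  have hc : ∀ o, bmap B B' (IsScalarTower.toAlgHom B Q Q₁) (univ o) = univ₁ (algebraMap O O₁ o) :=
    fun o => DFunLike.congr_fun hφ o
  have hs : Smooth (Spec.map (CommRingCat.ofHom φ.toRingHom)) := by
    rw [smooth_spec]
    exact ⟨formallySmooth_map univ univ₁ hu hu₁ hc,
      Algebra.FinitePresentation.of_restrict_scalars_finitePresentation B Q Q₁⟩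
  have hsu : Surjective (Spec.map (CommRingCat.ofHom φ.toRingHom)) :=
    (surjective_spec _).2 (surjective_comap_map univ univ₁ hsurj hu hu₁ hc)
  show Smooth (iRX.hom.left ≫ Spec.map (CommRingCat.ofHom φ.toRingHom) ≫ iRY.inv.left) ∧
    Surjective (iRX.hom.left ≫ Spec.map (CommRingCat.ofHom φ.toRingHom) ≫ iRY.inv.left)
  exact ⟨inferInstance, inferInstance⟩

end Groth.Agent.WeilAff
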