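import Mathlib.RingTheory.FinitePresentation
import Mathlib.RingTheory.TensorProduct.Basic
import Mathlib.RingTheory.TensorProduct.Maps
import Mathlib.LinearAlgebra.TensorProduct.Basis
import Mathlib.RingTheory.Finiteness.Basic
import Mathlib.Algebra.Module.Projective

/-!
# Weil restriction of a finitely presented algebra along a finite projective algebra
-/

universe u

open TensorProduct

namespace Groth.Agent.WeilAff

variable (B B' : Type u) [CommRing B] [CommRing B'] [Algebra B B']

/-- The identification of a base change of `B'`-algebras by a map of `B`-algebras. -/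
noncomputable def bmap {C D : Type u} [CommRing C] [Algebra B C] [CommRing D] [Algebra B D] (φ : C →ₐ[B] D) :
    B' ⊗[B] C →ₐ[B'] B' ⊗[B] D :=
  Algebra.TensorProduct.map (AlgHom.id B' B') φ

@[simp] theorem bmap_tmul {C D : Type u} [CommRing C] [Algebra B C] [CommRing D] [Algebra B D] (φ : C →ₐ[B] D)
    (b : B') (c : C) : bmap B B' φ (b ⊗ₜ c) = b ⊗ₜ φ c := rfl

theorem bmap_comp {C D E : Type u} [CommRing C] [Algebra B C] [CommRing D] [Algebra B D] [CommRing E] [Algebra B E]
    (φ : C →ₐ[B] D) (ψ : D →ₐ[B] E) (z : B' ⊗[B] C) : bmap B B' ψ (bmap B B' φ z) = bmap B B' (ψ.comp φ) z := by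
  induction z using TensorProduct.induction_on with
  | zero => simp
  | tmul b c => simp
  | add x y hx hy => simp [hx, hy]

section Coord

variable {B B'} {m : ℕ} (s : B' →ₗ[B] (Fin m → B)) (π : (Fin m → B) →ₗ[B] B')

/-- The `l`-th coordinate. -/
noncomputable def coord (C : Type u) [CommRing C] [Algebra B C] (l : Fin m) : B' ⊗[B] C →ₗ[B] C :=
  (TensorProduct.lid B C).toLinearMap ∘ₗ LinearMap.rTensor C ((LinearMap.proj l) ∘ₗ s)

theorem coord_tmul (C : Type u) [CommRing C] [Algebra B C] (l : Fin m) (b : B') (c : C) :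
    coord s C l (b ⊗ₜ c) = s b l • c := by
  simp [coord]

theorem coord_bmap {C D : Type u} [CommRing C] [Algebra B C] [CommRing D] [Algebra B D] (φ : C →ₐ[B] D)
    (l : Fin m) (z : B' ⊗[B] C) : coord s D l (bmap B B' φ z) = φ (coord s C l z) := by
  induction z using TensorProduct.induction_on with
  | zero => simp
  | tmul b c => simp [coord_tmul]
  | add x y hx hy => simp [hx, hy]

theorem eq_sum_coord (hπ : π ∘ₗ s = LinearMap.id) (C : Type u) [CommRing C] [Algebra B C] (z : B' ⊗[B] C) :
    ∑ l, π (Pi.single l 1) ⊗ₜ[B] coord s C l z = z := by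
  induction z using TensorProduct.induction_on with
  | zero => simp
  | tmul b c =>
    simp only [coord_tmul, TensorProduct.tmul_smul, ← TensorProduct.smul_tmul', ← Finset.smul_sum]
    calc ∑ l, s b l • π (Pi.single l 1) ⊗ₜ[B] c = (∑ l, s b l • π (Pi.single l 1)) ⊗ₜ[B] c := by
          rw [TensorProduct.sum_tmul]
          exact Finset.sum_congr rfl fun l _ => (TensorProduct.smul_tmul' _ _ _)
      _ = π (s b) ⊗ₜ[B] c := by
          congr 1
          rw [← Finset.sum_congr rfl (fun l _ => map_smul π (s b l) (Pi.single l 1)), ← map_sum]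
          congr 1
          ext i
          simp [Finset.sum_apply, Pi.single_apply]
      _ = b ⊗ₜ[B] c := by rw [← LinearMap.comp_apply, hπ, LinearMap.id_apply]
  | add x y hx hy => simp only [map_add, TensorProduct.tmul_add, Finset.sum_add_distrib, hx, hy]

end Coord

open MvPolynomial in
/-- Weil restriction of affine schemes. -/
theorem exists_weil_ring [Module.Finite B B'] [Module.Projective B B'] (O : Type u) [CommRing O] [Algebra B' O]
    [Algebra.FinitePresentation B' O] :
    ∃ (Q : Type u) (_ : CommRing Q) (_ : Algebra B Q), Algebra.FinitePresentation B Q ∧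
      ∃ univ : O →ₐ[B'] B' ⊗[B] Q, ∀ (C : Type u) [CommRing C] [Algebra B C] (ψ : O →ₐ[B'] B' ⊗[B] C),
        ∃! φ : Q →ₐ[B] C, (bmap B B' φ).comp univ = ψ := by
  classical
  obtain ⟨m, π, hπs⟩ := Module.Finite.exists_fin' B B'
  obtain ⟨s, hπ⟩ := Module.projective_lifting_property π LinearMap.id hπs
  obtain ⟨n, f, hf, hker⟩ := Algebra.FinitePresentation.out (R := B') (A := O)
  obtain ⟨G, hG⟩ := hker
  let P := MvPolynomial (Fin n × Fin m) B
  let ζ : Fin n → B' ⊗[B] P := fun i => ∑ l, π (Pi.single l 1) ⊗ₜ[B] (X (i, l) : P)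
  let ν : MvPolynomial (Fin n) B' →ₐ[B'] B' ⊗[B] P := aeval ζ
  let gens : Finset P :=
    (Finset.univ.image fun il : Fin n × Fin m => X il - coord s P il.2 (ζ il.1)) ∪
      ((G ×ˢ (Finset.univ : Finset (Fin m))).image fun gl => coord s P gl.2 (ν gl.1))
  let I : Ideal P := Ideal.span (↑gens : Set P)
  have hI : I.FG := ⟨gens, rfl⟩
  let mk : P →ₐ[B] P ⧸ I := Ideal.Quotient.mkₐ B I
  haveI : Algebra.FinitePresentation B (P ⧸ I) := Algebra.FinitePresentation.quotient hI
  have hkill : ∀ g ∈ RingHom.ker f.toRingHom, ((bmap B B' mk).comp ν) g = 0 := by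
    have hle : RingHom.ker f.toRingHom ≤ RingHom.ker ((bmap B B' mk).comp ν).toRingHom := by
      rw [← hG, Submodule.span_le]
      intro g hg
      show (bmap B B' mk) (ν g) = 0
      rw [← eq_sum_coord s π hπ (P ⧸ I) (bmap B B' mk (ν g))]
      refine Finset.sum_eq_zero fun l _ => ?_
      rw [coord_bmap, Ideal.Quotient.mkₐ_eq_mk, Ideal.Quotient.eq_zero_iff_mem.2, TensorProduct.tmul_zero]
      exact Ideal.subset_span (Finset.mem_coe.2 (Finset.mem_union_right _
        (Finset.mem_image.2 ⟨(g, l), Finset.mem_product.2 ⟨hg, Finset.mem_univ _⟩, rfl⟩)))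
    exact fun g hg => hle hg
  let univ : O →ₐ[B'] B' ⊗[B] (P ⧸ I) :=
    (Ideal.Quotient.liftₐ (RingHom.ker f.toRingHom) ((bmap B B' mk).comp ν) hkill).comp
      (Ideal.quotientKerAlgEquivOfSurjective hf).symm.toAlgHom
  have huniv : ∀ g, univ (f g) = bmap B B' mk (ν g) := by
    intro g
    show Ideal.Quotient.liftₐ _ _ hkill ((Ideal.quotientKerAlgEquivOfSurjective hf).symm (f g)) = _
    rw [Ideal.quotientKerAlgEquivOfSurjective_symm_apply]
    rfl
  refine ⟨P ⧸ I, inferInstance, inferInstance, ‹_›, univ, fun C _ _ ψ => ?_⟩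
  let φ₀ : P →ₐ[B] C := aeval fun il : Fin n × Fin m => coord s C il.2 (ψ (f (X il.1)))
  have hν : (bmap B B' φ₀).comp ν = ψ.comp f := by
    apply MvPolynomial.algHom_ext
    intro i
    simp only [AlgHom.comp_apply, ν, aeval_X, ζ, map_sum, bmap_tmul, φ₀]
    rw [Finset.sum_congr rfl fun l _ => congrArg (π (Pi.single l 1) ⊗ₜ[B] ·) (aeval_X _ (i, l))]
    exact eq_sum_coord s π hπ C (ψ (f (X i)))
  have hI0 : ∀ x ∈ I, φ₀ x = 0 := by
    have hle : I ≤ RingHom.ker φ₀.toRingHom := by
      rw [Ideal.span_le]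
      intro x hx
      show φ₀ x = 0
      rcases Finset.mem_union.1 (Finset.mem_coe.1 hx) with hx | hx
      · obtain ⟨⟨i, l⟩, -, rfl⟩ := Finset.mem_image.1 hx
        rw [map_sub, ← coord_bmap]
        have := DFunLike.congr_fun hν (X i)
        simp only [AlgHom.comp_apply, ν, aeval_X] at this
        rw [this, show φ₀ (X (i, l)) = coord s C l (ψ (f (X i))) from aeval_X _ (i, l)]
        exact sub_self _
      · obtain ⟨⟨g, l⟩, hgl, rfl⟩ := Finset.mem_image.1 hx
        rw [← coord_bmap]
        have := DFunLike.congr_fun hν g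
        simp only [AlgHom.comp_apply] at this
        rw [this]
        have hg : g ∈ RingHom.ker f.toRingHom := hG ▸ Ideal.subset_span (Finset.mem_product.1 hgl).1
        rw [show f g = 0 from hg, map_zero, map_zero]
    exact fun x hx => hle hx
  refine ⟨Ideal.Quotient.liftₐ I φ₀ hI0, ?_, fun φ hφ => ?_⟩
  · apply AlgHom.ext
    intro o
    obtain ⟨g, rfl⟩ := hf o
    rw [AlgHom.comp_apply, huniv, bmap_comp, show (Ideal.Quotient.liftₐ I φ₀ hI0).comp mk = φ₀ from
      AlgHom.ext fun _ => rfl]
    exact DFunLike.congr_fun hν g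
  · have hX : φ.comp mk = φ₀ := by
      apply MvPolynomial.algHom_ext
      rintro ⟨i, l⟩
      have h1 : mk (X (i, l)) = mk (coord s P l (ζ i)) :=
        Ideal.Quotient.eq.2 (Ideal.subset_span (Finset.mem_coe.2 (Finset.mem_union_left _
          (Finset.mem_image.2 ⟨(i, l), Finset.mem_univ _, rfl⟩))))
      rw [AlgHom.comp_apply, h1, ← coord_bmap, ← coord_bmap]
      have := DFunLike.congr_fun hφ (f (X i))
      rw [AlgHom.comp_apply, huniv] at this
      simp only [ν, aeval_X] at this
      rw [this]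
      exact (aeval_X (fun il : Fin n × Fin m => coord s C il.2 (ψ (f (X il.1)))) (i, l)).symm
    apply AlgHom.ext
    intro q
    obtain ⟨x, rfl⟩ := Ideal.Quotient.mk_surjective q
    exact DFunLike.congr_fun hX x

end Groth.Agent.WeilAff
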