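import Groth.Agent.WeilAff.Alg
import Mathlib.RingTheory.Smooth.Basic
import Mathlib.RingTheory.Smooth.StandardSmoothOfFree
import Mathlib.RingTheory.Artinian.Ring
import Mathlib.RingTheory.Jacobson.Ring
import Mathlib.RingTheory.Spectrum.Prime.Topology
import Mathlib.FieldTheory.IsAlgClosed.AlgebraicClosure
import Mathlib.RingTheory.LocalRing.ResidueField.Ideal
import Mathlib.RingTheory.Jacobson.Artinian

/-!
# Smoothness and surjectivity of the maps between Weil restrictions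
-/

universe u

set_option maxHeartbeats 1000000

open TensorProduct

namespace Groth.Agent.WeilAff

variable {B B' : Type u} [CommRing B] [CommRing B'] [Algebra B B']

theorem ker_bmap {C D : Type u} [CommRing C] [Algebra B C] [CommRing D] [Algebra B D] (g : C →ₐ[B] D)
    (hg : Function.Surjective g) :
    RingHom.ker (bmap B B' g).toRingHom = (RingHom.ker g).map (Algebra.TensorProduct.includeRight : C →ₐ[B] B' ⊗[B] C) :=
  Algebra.TensorProduct.lTensor_ker g hg

theorem bmap_surjective {C D : Type u} [CommRing C] [Algebra B C] [CommRing D] [Algebra B D] (g : C →ₐ[B] D)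
    (hg : Function.Surjective g) : Function.Surjective (bmap B B' g) := by
  intro z
  induction z using TensorProduct.induction_on with
  | zero => exact ⟨0, map_zero _⟩
  | tmul b d => obtain ⟨c, rfl⟩ := hg d; exact ⟨b ⊗ₜ c, rfl⟩
  | add x y hx hy =>
    obtain ⟨a, rfl⟩ := hx; obtain ⟨b, rfl⟩ := hy
    exact ⟨a + b, map_add _ _ _⟩

/-- A point over a field for a surjective finite type extension. -/
theorem exists_point {O O₁ L : Type u} [CommRing O] [CommRing O₁] [Algebra O O₁] [Algebra.FiniteType O O₁]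
    [Field L] [IsAlgClosed L] [Algebra O L]
    (hsurj : Function.Surjective (PrimeSpectrum.comap (algebraMap O O₁))) : Nonempty (O₁ →ₐ[O] L) := by
  let P : Ideal O := RingHom.ker (algebraMap O L)
  haveI : P.IsPrime := RingHom.ker_isPrime _
  obtain ⟨Q, hQ⟩ := hsurj ⟨P, inferInstance⟩
  haveI : Q.asIdeal.LiesOver P := ⟨(congrArg PrimeSpectrum.asIdeal hQ).symm⟩
  let κ := P.ResidueField
  let ι : κ →+* L := Ideal.ResidueField.lift P (algebraMap O L) le_rfl fun x hx => by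
    exact isUnit_iff_ne_zero.2 fun h => hx (RingHom.mem_ker.2 h)
  letI : Algebra κ L := ι.toAlgebra
  haveI : IsScalarTower O κ L := IsScalarTower.of_algebraMap_eq fun x => by
    show _ = ι (algebraMap O κ x)
    simp [ι, κ]
  letI : Algebra κ Q.asIdeal.ResidueField :=
    (Ideal.ResidueField.map P Q.asIdeal (algebraMap O O₁) (Ideal.LiesOver.over (p := P) (P := Q.asIdeal))).toAlgebra
  haveI : IsScalarTower O κ Q.asIdeal.ResidueField := IsScalarTower.of_algebraMap_eq fun x => by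
    show _ = Ideal.ResidueField.map P Q.asIdeal (algebraMap O O₁) _ (algebraMap O κ x)
    rw [IsScalarTower.algebraMap_apply O O₁ Q.asIdeal.ResidueField]
    simp [κ]
  let R := L ⊗[κ] Q.asIdeal.ResidueField
  haveI : Nontrivial R := by
    have := (Algebra.TensorProduct.includeRight_injective (R := κ) (A := L) (B := Q.asIdeal.ResidueField) ι.injective)
    exact this.nontrivial
  let g : L ⊗[O] O₁ →+* R := (Algebra.TensorProduct.mapOfCompatibleSMul κ O L L Q.asIdeal.ResidueField).toRingHom.comp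
    (Algebra.TensorProduct.map (AlgHom.id O L) (IsScalarTower.toAlgHom O O₁ Q.asIdeal.ResidueField)).toRingHom
  haveI : Nontrivial (L ⊗[O] O₁) := g.domain_nontrivial
  obtain ⟨M, hM⟩ := Ideal.exists_maximal (L ⊗[O] O₁)
  letI := Ideal.Quotient.field M
  haveI : Algebra.FiniteType L ((L ⊗[O] O₁) ⧸ M) :=
    Algebra.FiniteType.of_surjective (Ideal.Quotient.mkₐ L M) Ideal.Quotient.mk_surjective
  haveI : Module.Finite L ((L ⊗[O] O₁) ⧸ M) := finite_of_finite_type_of_isJacobsonRing L _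
  have hb := IsAlgClosed.algebraMap_bijective_of_isIntegral (k := L) (K := (L ⊗[O] O₁) ⧸ M)
  let e := (AlgEquiv.ofBijective (Algebra.ofId L ((L ⊗[O] O₁) ⧸ M)) hb).symm
  exact ⟨((e.toAlgHom.comp (Ideal.Quotient.mkₐ L M)).restrictScalars O).comp Algebra.TensorProduct.includeRight⟩

/-- Lifting of points with values in an artinian algebra. -/
theorem exists_artinian_point {O O₁ D : Type u} [CommRing O] [CommRing O₁] [Algebra O O₁] [Algebra.FiniteType O O₁]
    [Algebra.FormallySmooth O O₁] [CommRing D] [IsArtinianRing D] [Algebra O D]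
    (hsurj : Function.Surjective (PrimeSpectrum.comap (algebraMap O O₁)))
    (hcl : ∀ m : MaximalSpectrum D, letI := Ideal.Quotient.field m.asIdeal; IsAlgClosed (D ⧸ m.asIdeal))
    (m₀ : MaximalSpectrum D) (x : O₁ →ₐ[O] D ⧸ m₀.asIdeal) :
    ∃ ψ : O₁ →ₐ[O] D, (Ideal.Quotient.mkₐ O m₀.asIdeal).comp ψ = x := by
  classical
  have hx : ∀ m : MaximalSpectrum D, ∃ xm : O₁ →ₐ[O] D ⧸ m.asIdeal, ∀ h : m = m₀, h ▸ xm = x := by
    intro m
    by_cases h : m = m₀
    · subst h; exact ⟨x, fun _ => rfl⟩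
    · letI := Ideal.Quotient.field m.asIdeal
      haveI := hcl m
      obtain ⟨xm⟩ := exists_point (L := D ⧸ m.asIdeal) hsurj
      exact ⟨xm, fun h' => absurd h' h⟩
  choose xm hxm using hx
  let g : D →ₐ[O] (∀ m : MaximalSpectrum D, D ⧸ m.asIdeal) := AlgHom.pi fun m => Ideal.Quotient.mkₐ O m.asIdeal
  have hg : Function.Surjective g := by
    intro y
    have hco : Pairwise fun i j : MaximalSpectrum D => IsCoprime i.asIdeal j.asIdeal :=
      fun i j hij => Ideal.isCoprime_iff_sup_eq.2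
        (i.isMaximal.coprime_of_ne j.isMaximal fun h => hij (MaximalSpectrum.ext h))
    obtain ⟨z, hz⟩ := Ideal.pi_quotient_surjective hco y
    exact ⟨z, funext hz⟩
  have hn : IsNilpotent (RingHom.ker (g : D →+* ∀ m : MaximalSpectrum D, D ⧸ m.asIdeal)) := by
    obtain ⟨n, hn⟩ := IsArtinianRing.isNilpotent_jacobson_bot (R := D)
    refine ⟨n, le_bot_iff.1 (le_trans (Ideal.pow_right_mono ?_ n) hn.le)⟩
    intro d hd
    rw [Ideal.jacobson, Ideal.mem_sInf]
    rintro J ⟨-, hJ⟩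
    exact Ideal.Quotient.eq_zero_iff_mem.1 (congrFun (RingHom.mem_ker.1 hd) ⟨J, hJ⟩)
  refine ⟨Algebra.FormallySmooth.liftOfSurjective (AlgHom.pi xm) g hg hn, ?_⟩
  apply AlgHom.ext
  intro o
  have := congrFun (Algebra.FormallySmooth.liftOfSurjective_apply (AlgHom.pi xm) g hg hn o) m₀
  exact this.trans (DFunLike.congr_fun (hxm m₀ rfl) o)

variable [Module.Finite B B'] {O O₁ Q Q₁ : Type u} [CommRing O] [Algebra B' O] [CommRing O₁] [Algebra B' O₁]
  [CommRing Q] [Algebra B Q] [CommRing Q₁] [Algebra B Q₁]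
  (univ : O →ₐ[B'] B' ⊗[B] Q) (univ₁ : O₁ →ₐ[B'] B' ⊗[B] Q₁)

theorem exists_lift_nilpotent {R A D E : Type u} [CommRing R] [CommRing A] [CommRing D] [CommRing E] [Algebra R A]
    [Algebra R D] [Algebra R E] [Algebra.FormallySmooth R A] (t : A →ₐ[R] E) (g : D →ₐ[R] E)
    (hg : Function.Surjective g) (hn : IsNilpotent (RingHom.ker (g : D →+* E))) :
    ∃ ψ : A →ₐ[R] D, ∀ a, g (ψ a) = t a :=
  ⟨Algebra.FormallySmooth.liftOfSurjective t g hg hn, Algebra.FormallySmooth.liftOfSurjective_apply t g hg hn⟩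

/-- Lifting into a fibre product of algebras. -/
theorem exists_lift_pair {R A D E₁ E₂ E₃ : Type u} [CommRing R] [CommRing A] [CommRing D] [CommRing E₁] [CommRing E₂]
    [CommRing E₃] [Algebra R A] [Algebra R D] [Algebra R E₁] [Algebra R E₂] [Algebra R E₃]
    [Algebra.FormallySmooth R A] (g₁ : D →ₐ[R] E₁) (g₂ : D →ₐ[R] E₂) (u : E₁ →ₐ[R] E₃) (v : E₂ →ₐ[R] E₃)
    (hc : ∀ d, u (g₁ d) = v (g₂ d)) (hs : ∀ a c, u a = v c → ∃ d, g₁ d = a ∧ g₂ d = c)
    (hn : IsNilpotent (RingHom.ker (g₁ : D →+* E₁))) (t₁ : A →ₐ[R] E₁) (t₂ : A →ₐ[R] E₂)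
    (ht : ∀ a, u (t₁ a) = v (t₂ a)) :
    ∃ ψ : A →ₐ[R] D, (∀ a, g₁ (ψ a) = t₁ a) ∧ ∀ a, g₂ (ψ a) = t₂ a := by
  let P : Subalgebra R (E₁ × E₂) :=
    AlgHom.equalizer (u.comp (AlgHom.fst R E₁ E₂)) (v.comp (AlgHom.snd R E₁ E₂))
  let p : D →ₐ[R] P := (g₁.prod g₂).codRestrict P fun d => hc d
  have hp : Function.Surjective p := fun w => by
    obtain ⟨d, h₁, h₂⟩ := hs w.1.1 w.1.2 w.2
    exact ⟨d, Subtype.ext (Prod.ext h₁ h₂)⟩
  have hp' : IsNilpotent (RingHom.ker (p : D →+* P)) := by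
    obtain ⟨n, hn⟩ := hn
    refine ⟨n, le_bot_iff.1 ((Ideal.pow_right_mono (fun d hd => ?_) n).trans hn.le)⟩
    exact RingHom.mem_ker.2 (congrArg (fun w : P => w.1.1) (RingHom.mem_ker.1 hd))
  obtain ⟨ψ, hψ⟩ := exists_lift_nilpotent ((t₁.prod t₂).codRestrict P fun a => ht a) p hp hp'
  exact ⟨ψ, fun a => congrArg (fun w : P => w.1.1) (hψ a), fun a => congrArg (fun w : P => w.1.2) (hψ a)⟩

/-- The multiplication `B' ⊗ C → C`. -/
noncomputable def mulMap (C : Type u) [CommRing C] [Algebra B C] [Algebra B' C] [IsScalarTower B B' C] :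
    B' ⊗[B] C →ₐ[B'] C :=
  Algebra.TensorProduct.lift (Algebra.ofId B' C) (AlgHom.id B C) fun _ _ => Commute.all _ _

theorem mulMap_tmul (C : Type u) [CommRing C] [Algebra B C] [Algebra B' C] [IsScalarTower B B' C] (b : B') (c : C) :
    mulMap C (b ⊗ₜ[B] c) = algebraMap B' C b * c :=
  Algebra.TensorProduct.lift_tmul _ _ _ b c

theorem isArtinian_tensor (K : Type u) [Field K] [Algebra B K] : IsArtinianRing (B' ⊗[B] K) := by
  haveI : IsArtinianRing (K ⊗[B] B') := IsArtinianRing.of_finite K (K ⊗[B] B')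
  exact (Algebra.TensorProduct.comm B K B').toRingEquiv.isArtinianRing

theorem isAlgClosed_residue (K : Type u) [Field K] [IsAlgClosed K] [Algebra B K] (m : Ideal (B' ⊗[B] K))
    [m.IsMaximal] : letI := Ideal.Quotient.field m; IsAlgClosed ((B' ⊗[B] K) ⧸ m) := by
  letI := Ideal.Quotient.field m
  letI : Algebra K ((B' ⊗[B] K) ⧸ m) :=
    ((Ideal.Quotient.mk m).comp (Algebra.TensorProduct.includeRight : K →ₐ[B] B' ⊗[B] K).toRingHom).toAlgebra
  haveI : Module.Finite K ((B' ⊗[B] K) ⧸ m) := by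
    let ρ : K ⊗[B] B' →ₐ[K] (B' ⊗[B] K) ⧸ m :=
      { toRingHom := (Ideal.Quotient.mk m).comp (Algebra.TensorProduct.comm B K B').toRingEquiv.toRingHom
        commutes' := fun a => by
          show Ideal.Quotient.mk m ((Algebra.TensorProduct.comm B K B') (a ⊗ₜ 1)) = _
          rw [Algebra.TensorProduct.comm_tmul]
          rfl }
    exact Module.Finite.of_surjective ρ.toLinearMap
      (Ideal.Quotient.mk_surjective.comp (Algebra.TensorProduct.comm B K B').surjective)
  exact IsAlgClosed.of_ringEquiv K _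
    (RingEquiv.ofBijective _ (IsAlgClosed.algebraMap_bijective_of_isIntegral (k := K) (K := (B' ⊗[B] K) ⧸ m)))

theorem formallySmooth_map [Algebra O O₁] [IsScalarTower B' O O₁] [Algebra.FormallySmooth O O₁]
    [Algebra Q Q₁] [IsScalarTower B Q Q₁]
    (hu : ∀ (C : Type u) [CommRing C] [Algebra B C] (ψ : O →ₐ[B'] B' ⊗[B] C),
      ∃! φ : Q →ₐ[B] C, (bmap B B' φ).comp univ = ψ)
    (hu₁ : ∀ (C : Type u) [CommRing C] [Algebra B C] (ψ : O₁ →ₐ[B'] B' ⊗[B] C),
      ∃! φ : Q₁ →ₐ[B] C, (bmap B B' φ).comp univ₁ = ψ)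
    (hc : ∀ o, bmap B B' (IsScalarTower.toAlgHom B Q Q₁) (univ o) = univ₁ (algebraMap O O₁ o)) :
    Algebra.FormallySmooth Q Q₁ := by
  rw [Algebra.FormallySmooth.iff_comp_surjective]
  intro C _ _ I hI f
  letI : Algebra B C := ((algebraMap Q C).comp (algebraMap B Q)).toAlgebra
  haveI : IsScalarTower B Q C := IsScalarTower.of_algebraMap_eq fun _ => rfl
  let mk : C →ₐ[B] C ⧸ I := Ideal.Quotient.mkₐ B I
  let φ₀ : Q₁ →ₐ[B] C ⧸ I := f.restrictScalars B
  let ψY : O →ₐ[B'] B' ⊗[B] C := (bmap B B' (IsScalarTower.toAlgHom B Q C)).comp univ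
  let ψX : O₁ →ₐ[B'] B' ⊗[B] (C ⧸ I) := (bmap B B' φ₀).comp univ₁
  have hcomp : ∀ o, bmap B B' mk (ψY o) = ψX (algebraMap O O₁ o) := by
    intro o
    show bmap B B' mk (bmap B B' (IsScalarTower.toAlgHom B Q C) (univ o)) = bmap B B' φ₀ (univ₁ (algebraMap O O₁ o))
    rw [← hc o, bmap_comp, bmap_comp]
    congr 2
    exact AlgHom.ext fun q => (f.commutes q).symm
  letI : Algebra O (B' ⊗[B] C) := ψY.toRingHom.toAlgebra
  letI : Algebra O (B' ⊗[B] (C ⧸ I)) := ((bmap B B' mk).toRingHom.comp ψY.toRingHom).toAlgebra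
  let g : B' ⊗[B] C →ₐ[O] B' ⊗[B] (C ⧸ I) := { toRingHom := (bmap B B' mk).toRingHom, commutes' := fun _ => rfl }
  let fX : O₁ →ₐ[O] B' ⊗[B] (C ⧸ I) := { toRingHom := ψX.toRingHom, commutes' := fun o => (hcomp o).symm }
  have hg : Function.Surjective g := bmap_surjective mk Ideal.Quotient.mk_surjective
  have hn : IsNilpotent (RingHom.ker (g : B' ⊗[B] C →+* B' ⊗[B] (C ⧸ I))) := by
    refine ⟨2, le_bot_iff.1 ?_⟩
    show RingHom.ker (bmap B B' mk).toRingHom ^ 2 ≤ ⊥
    rw [ker_bmap mk Ideal.Quotient.mk_surjective, ← Ideal.map_pow]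
    rw [show RingHom.ker mk = I from Ideal.mk_ker, hI, Ideal.map_bot]
  let ψ₀ : O₁ →ₐ[O] B' ⊗[B] C := Algebra.FormallySmooth.liftOfSurjective fX g hg hn
  have hψ₀ : ∀ o, bmap B B' mk (ψ₀ o) = ψX o :=
    fun o => Algebra.FormallySmooth.liftOfSurjective_apply fX g hg hn o
  let ψ : O₁ →ₐ[B'] B' ⊗[B] C :=
    { toRingHom := ψ₀.toRingHom
      commutes' := fun b => by
        show ψ₀ (algebraMap B' O₁ b) = _
        rw [IsScalarTower.algebraMap_apply B' O O₁, ψ₀.commutes]
        exact ψY.commutes b }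
  obtain ⟨φ, hφ, -⟩ := hu₁ C ψ
  have hQ : φ.comp (IsScalarTower.toAlgHom B Q Q₁) = IsScalarTower.toAlgHom B Q C := by
    refine (hu C ψY).unique (AlgHom.ext fun o => ?_) rfl
    show bmap B B' _ (univ o) = _
    rw [← bmap_comp, hc]
    exact (DFunLike.congr_fun hφ _).trans (ψ₀.commutes o)
  refine ⟨{ toRingHom := φ.toRingHom, commutes' := fun q => DFunLike.congr_fun hQ q }, AlgHom.ext fun q => ?_⟩
  have : mk.comp φ = φ₀ := by
    refine (hu₁ (C ⧸ I) ψX).unique (AlgHom.ext fun o => ?_) rfl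
    show bmap B B' _ (univ₁ o) = _
    rw [← bmap_comp]
    exact (congrArg (bmap B B' mk) (DFunLike.congr_fun hφ o)).trans (hψ₀ o)
  exact DFunLike.congr_fun this q

theorem surjective_comap_map [Algebra O O₁] [IsScalarTower B' O O₁] [Algebra.FormallySmooth O O₁]
    [Algebra.FiniteType O O₁] [Algebra Q Q₁] [IsScalarTower B Q Q₁]
    (hsurj : Function.Surjective (PrimeSpectrum.comap (algebraMap O O₁)))
    (hu : ∀ (C : Type u) [CommRing C] [Algebra B C] (ψ : O →ₐ[B'] B' ⊗[B] C),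
      ∃! φ : Q →ₐ[B] C, (bmap B B' φ).comp univ = ψ)
    (hu₁ : ∀ (C : Type u) [CommRing C] [Algebra B C] (ψ : O₁ →ₐ[B'] B' ⊗[B] C),
      ∃! φ : Q₁ →ₐ[B] C, (bmap B B' φ).comp univ₁ = ψ)
    (hc : ∀ o, bmap B B' (IsScalarTower.toAlgHom B Q Q₁) (univ o) = univ₁ (algebraMap O O₁ o)) :
    Function.Surjective (PrimeSpectrum.comap (algebraMap Q Q₁)) := by
  intro P
  let K := AlgebraicClosure P.asIdeal.ResidueField
  let D := B' ⊗[B] K
  haveI : IsArtinianRing D := isArtinian_tensor K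
  let φY : Q →ₐ[B] K := IsScalarTower.toAlgHom B Q K
  let ψY : O →ₐ[B'] D := (bmap B B' φY).comp univ
  letI : Algebra O D := ψY.toRingHom.toAlgebra
  by_cases hD : Nonempty (MaximalSpectrum D)
  · obtain ⟨m₀⟩ := hD
    have hcl : ∀ m : MaximalSpectrum D, letI := Ideal.Quotient.field m.asIdeal; IsAlgClosed (D ⧸ m.asIdeal) :=
      fun m => haveI := m.isMaximal; isAlgClosed_residue K m.asIdeal
    letI := Ideal.Quotient.field m₀.asIdeal
    haveI := hcl m₀
    obtain ⟨x⟩ := exists_point (L := D ⧸ m₀.asIdeal) hsurj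
    obtain ⟨ψ₀, -⟩ := exists_artinian_point hsurj hcl m₀ x
    let ψ : O₁ →ₐ[B'] D :=
      { toRingHom := ψ₀.toRingHom
        commutes' := fun b => by
          show ψ₀ (algebraMap B' O₁ b) = _
          rw [IsScalarTower.algebraMap_apply B' O O₁, ψ₀.commutes]
          exact ψY.commutes b }
    obtain ⟨φ, hφ, -⟩ := hu₁ K ψ
    have hQ : φ.comp (IsScalarTower.toAlgHom B Q Q₁) = φY := by
      refine (hu K ψY).unique (AlgHom.ext fun o => ?_) rfl
      show bmap B B' _ (univ o) = _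
      rw [← bmap_comp, hc]
      exact (DFunLike.congr_fun hφ _).trans (ψ₀.commutes o)
    refine ⟨⟨RingHom.ker φ.toRingHom, RingHom.ker_isPrime _⟩, PrimeSpectrum.ext (Ideal.ext fun q => ?_)⟩
    show φ (algebraMap Q Q₁ q) = 0 ↔ q ∈ P.asIdeal
    rw [show φ (algebraMap Q Q₁ q) = φY q from DFunLike.congr_fun hQ q]
    show algebraMap Q K q = 0 ↔ _
    rw [IsScalarTower.algebraMap_apply Q P.asIdeal.ResidueField K, map_eq_zero, Ideal.algebraMap_residueField_eq_zero]
  · haveI : Subsingleton D := by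
      by_contra h
      haveI := not_subsingleton_iff_nontrivial.1 h
      obtain ⟨m, hm⟩ := Ideal.exists_maximal D
      exact hD ⟨⟨m, hm⟩⟩
    letI : Unique D := uniqueOfSubsingleton 0
    let ψ : O₁ →ₐ[B'] D :=
      { toFun := fun _ => 0
        map_one' := Subsingleton.elim _ _
        map_mul' := fun _ _ => Subsingleton.elim _ _
        map_zero' := rfl
        map_add' := fun _ _ => Subsingleton.elim _ _
        commutes' := fun _ => Subsingleton.elim _ _ }
    obtain ⟨φ, hφ, -⟩ := hu₁ K ψ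
    have hQ : φ.comp (IsScalarTower.toAlgHom B Q Q₁) = φY :=
      (hu K ψY).unique (AlgHom.ext fun o => Subsingleton.elim (α := D) _ _) rfl
    refine ⟨⟨RingHom.ker φ.toRingHom, RingHom.ker_isPrime _⟩, PrimeSpectrum.ext (Ideal.ext fun q => ?_)⟩
    show φ (algebraMap Q Q₁ q) = 0 ↔ q ∈ P.asIdeal
    rw [show φ (algebraMap Q Q₁ q) = φY q from DFunLike.congr_fun hQ q]
    show algebraMap Q K q = 0 ↔ _
    rw [IsScalarTower.algebraMap_apply Q P.asIdeal.ResidueField K, map_eq_zero, Ideal.algebraMap_residueField_eq_zero]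

/-- The counit is formally smooth. -/
theorem formallySmooth_counit [Algebra.FormallySmooth B' O]
    (hu : ∀ (C : Type u) [CommRing C] [Algebra B C] (ψ : O →ₐ[B'] B' ⊗[B] C),
      ∃! φ : Q →ₐ[B] C, (bmap B B' φ).comp univ = ψ) :
    letI := univ.toRingHom.toAlgebra; Algebra.FormallySmooth O (B' ⊗[B] Q) := by
  letI := univ.toRingHom.toAlgebra
  rw [Algebra.FormallySmooth.iff_comp_surjective]
  intro C _ _ I hI f
  letI : Algebra B' C := ((algebraMap O C).comp (algebraMap B' O)).toAlgebra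
  letI : Algebra B C := ((algebraMap B' C).comp (algebraMap B B')).toAlgebra
  haveI : IsScalarTower B B' C := IsScalarTower.of_algebraMap_eq fun _ => rfl
  let mk : C →ₐ[B] C ⧸ I := Ideal.Quotient.mkₐ B I
  let mk' : C →ₐ[B'] C ⧸ I := Ideal.Quotient.mkₐ B' I
  have hfB : ∀ b : B', f (b ⊗ₜ[B] 1) = mk' (algebraMap B' C b) := by
    intro b
    rw [show b ⊗ₜ[B] (1 : Q) = univ (algebraMap B' O b) from (univ.commutes b).symm]
    exact f.commutes _
  let φ₀ : Q →ₐ[B] C ⧸ I :=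
    { toRingHom := f.toRingHom.comp (Algebra.TensorProduct.includeRight : Q →ₐ[B] B' ⊗[B] Q).toRingHom
      commutes' := fun b => by
        show f ((1 : B') ⊗ₜ[B] algebraMap B Q b) = _
        rw [← Algebra.TensorProduct.tmul_one_eq_one_tmul, hfB]
        rfl }
  have hf : ∀ z, f z = mulMap (C ⧸ I) (bmap B B' φ₀ z) := by
    intro z
    induction z using TensorProduct.induction_on with
    | zero => simp
    | add a b ha hb => simp [ha, hb]
    | tmul b q =>
      rw [bmap_tmul, mulMap_tmul, show b ⊗ₜ[B] q = b ⊗ₜ[B] (1 : Q) * (1 : B') ⊗ₜ[B] q from by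
        rw [Algebra.TensorProduct.tmul_mul_tmul, _root_.mul_one, _root_.one_mul], map_mul, hfB]
      rfl
  let ψ₀ : O →ₐ[B'] B' ⊗[B] (C ⧸ I) := (bmap B B' φ₀).comp univ
  let x : O →ₐ[B'] C := { toRingHom := algebraMap O C, commutes' := fun _ => rfl }
  have hx : ∀ o, mulMap (C ⧸ I) (ψ₀ o) = mk' (x o) := fun o => (hf (univ o)).symm.trans (f.commutes o)
  have hnat : ∀ z : B' ⊗[B] C, mulMap (C ⧸ I) (bmap B B' mk z) = mk' (mulMap C z) := by
    intro z
    induction z using TensorProduct.induction_on with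
    | zero => simp
    | add a b ha hb => simp [ha, hb]
    | tmul b c => rw [bmap_tmul, mulMap_tmul, mulMap_tmul, map_mul]; rfl
  have hs : ∀ a c, mulMap (C ⧸ I) a = mk' c → ∃ z, bmap B B' mk z = a ∧ mulMap C z = c := by
    intro a c hac
    obtain ⟨a', rfl⟩ := bmap_surjective mk Ideal.Quotient.mk_surjective a
    have hd : c - mulMap C a' ∈ I := Ideal.Quotient.eq.1 ((hnat a').symm.trans hac).symm
    refine ⟨a' + (1 : B') ⊗ₜ[B] (c - mulMap C a'), ?_, ?_⟩
    · rw [map_add, bmap_tmul, show mk (c - mulMap C a') = 0 from Ideal.Quotient.eq_zero_iff_mem.2 hd,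
        TensorProduct.tmul_zero, add_zero]
    · rw [map_add, mulMap_tmul, map_one, _root_.one_mul, add_sub_cancel]
  have hn : IsNilpotent (RingHom.ker (bmap B B' mk : B' ⊗[B] C →+* B' ⊗[B] (C ⧸ I))) := by
    refine ⟨2, ?_⟩
    show RingHom.ker (bmap B B' mk).toRingHom ^ 2 = ⊥
    rw [ker_bmap mk Ideal.Quotient.mk_surjective, ← Ideal.map_pow, show RingHom.ker mk = I from Ideal.mk_ker,
      hI, Ideal.map_bot]
  obtain ⟨ψ, hψ₁, hψ₂⟩ := exists_lift_pair (bmap B B' mk) (mulMap C) (mulMap (C ⧸ I)) mk' hnat hs hn ψ₀ x hx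
  obtain ⟨φ, hφ, -⟩ := hu C ψ
  have hg : ∀ o, mulMap C (bmap B B' φ (univ o)) = algebraMap O C o := fun o =>
    (congrArg (mulMap C) (DFunLike.congr_fun hφ o)).trans (hψ₂ o)
  refine ⟨{ toRingHom := ((mulMap C).comp (bmap B B' φ)).toRingHom, commutes' := hg }, AlgHom.ext fun z => ?_⟩
  have h1 : mk.comp φ = φ₀ := by
    refine (hu (C ⧸ I) ψ₀).unique (AlgHom.ext fun o => ?_) rfl
    show bmap B B' _ (univ o) = _
    rw [← bmap_comp]
    exact (congrArg (bmap B B' mk) (DFunLike.congr_fun hφ o)).trans (hψ₁ o)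
  show mk' (mulMap C (bmap B B' φ z)) = f z
  rw [← hnat, bmap_comp, h1, hf]

theorem surjective_comap_counit [Algebra.FormallySmooth B' O] [Algebra.FiniteType B' O]
    (hsurj : Function.Surjective (PrimeSpectrum.comap (algebraMap B' O)))
    (hu : ∀ (C : Type u) [CommRing C] [Algebra B C] (ψ : O →ₐ[B'] B' ⊗[B] C),
      ∃! φ : Q →ₐ[B] C, (bmap B B' φ).comp univ = ψ) :
    Function.Surjective (PrimeSpectrum.comap univ.toRingHom) := by
  intro P
  let K := AlgebraicClosure P.asIdeal.ResidueField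
  let x : O →ₐ[B'] K := IsScalarTower.toAlgHom B' O K
  letI : Algebra B K := ((algebraMap B' K).comp (algebraMap B B')).toAlgebra
  haveI : IsScalarTower B B' K := IsScalarTower.of_algebraMap_eq fun _ => rfl
  let D := B' ⊗[B] K
  haveI : IsArtinianRing D := isArtinian_tensor K
  have hμ : Function.Surjective (mulMap (B := B) (B' := B') K) := fun c => ⟨1 ⊗ₜ c, by
    rw [mulMap_tmul, map_one, _root_.one_mul]⟩
  let m₀ : MaximalSpectrum D := ⟨RingHom.ker (mulMap (B := B) (B' := B') K).toRingHom,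
    RingHom.ker_isMaximal_of_surjective _ hμ⟩
  let e := Ideal.quotientKerAlgEquivOfSurjective hμ
  let x₀ : O →ₐ[B'] D ⧸ m₀.asIdeal := e.symm.toAlgHom.comp x
  obtain ⟨ψ, hψ⟩ := exists_artinian_point hsurj
    (fun m => haveI := m.isMaximal; isAlgClosed_residue K m.asIdeal) m₀ x₀
  obtain ⟨φ, hφ, -⟩ := hu K ψ
  let g : B' ⊗[B] Q →+* K := ((mulMap K).comp (bmap B B' φ)).toRingHom
  refine ⟨⟨RingHom.ker g, RingHom.ker_isPrime _⟩, PrimeSpectrum.ext (Ideal.ext fun o => ?_)⟩
  show mulMap K (bmap B B' φ (univ o)) = 0 ↔ o ∈ P.asIdeal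
  have h1 : mulMap K (ψ o) = x o := by
    have h2 : e (Ideal.Quotient.mk m₀.asIdeal (ψ o)) = e (x₀ o) := congrArg e (DFunLike.congr_fun hψ o)
    rw [show e (x₀ o) = x o from e.apply_symm_apply (x o)] at h2
    rw [← h2]
    rfl
  rw [show bmap B B' φ (univ o) = ψ o from DFunLike.congr_fun hφ o, h1]
  show algebraMap O K o = 0 ↔ _
  rw [IsScalarTower.algebraMap_apply O P.asIdeal.ResidueField K, map_eq_zero, Ideal.algebraMap_residueField_eq_zero]

end Groth.Agent.WeilAff
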