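import Groth.Agent.WeilAff.Lift
import Mathlib.AlgebraicGeometry.Morphisms.Smooth
import Mathlib.AlgebraicGeometry.Pullbacks
import Mathlib.RingTheory.RingHom.Smooth

/-!
# The Weil restriction of an affine scheme as a represented functor
-/

universe u

open CategoryTheory CategoryTheory.Limits AlgebraicGeometry TensorProduct

set_option backward.isDefEq.respectTransparency false
set_option backward.isDefEq.respectTransparency.types false

namespace Groth.Agent.WeilAff

variable (B B' : Type u) [CommRing B] [CommRing B'] [Algebra B B']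

/-- `Spec B' ⟶ Spec B`. -/
noncomputable abbrev sig : Spec (CommRingCat.of B') ⟶ Spec (CommRingCat.of B) :=
  Spec.map (CommRingCat.ofHom (algebraMap B B'))

/-- `Spec C` over `Spec B`. -/
noncomputable abbrev S (C : Type u) [CommRing C] [Algebra B C] : Over (Spec (CommRingCat.of B)) :=
  Over.mk (Spec.map (CommRingCat.ofHom (algebraMap B C)))

variable {B}

/-- The morphism of spectra of a map of algebras. -/
noncomputable def Sm {C D : Type u} [CommRing C] [Algebra B C] [CommRing D] [Algebra B D] (φ : C →ₐ[B] D) :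
    S B D ⟶ S B C :=
  Over.homMk (Spec.map (CommRingCat.ofHom φ.toRingHom)) (by
    show Spec.map _ ≫ Spec.map _ = Spec.map _
    rw [← Spec.map_comp, ← CommRingCat.ofHom_comp]
    exact congrArg (fun u => Spec.map (CommRingCat.ofHom u)) φ.comp_algebraMap)

theorem exists_eq_Sm {C D : Type u} [CommRing C] [Algebra B C] [CommRing D] [Algebra B D] (g : S B D ⟶ S B C) :
    ∃ φ : C →ₐ[B] D, g = Sm φ := by
  obtain ⟨φ₀, hφ₀⟩ := Spec.map_surjective g.left
  have h : CommRingCat.ofHom (algebraMap B C) ≫ φ₀ = CommRingCat.ofHom (algebraMap B D) := by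
    apply Spec.map_injective
    rw [Spec.map_comp, hφ₀]
    exact Over.w g
  let φ : C →ₐ[B] D :=
    { toRingHom := φ₀.hom
      commutes' := fun b => congrArg (fun u : CommRingCat.of B ⟶ CommRingCat.of D => u.hom b) h }
  exact ⟨φ, Over.OverMorphism.ext hφ₀.symm⟩

theorem Sm_injective {C D : Type u} [CommRing C] [Algebra B C] [CommRing D] [Algebra B D] {φ φ' : C →ₐ[B] D}
    (h : Sm φ = Sm φ') : φ = φ' :=
  AlgHom.ext fun c => congrArg (fun u : CommRingCat.of C ⟶ CommRingCat.of D => u.hom c)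
    (Spec.map_injective (congrArg CommaMorphism.left h))

variable {B'}

/-- The base change of `Spec C`. -/
noncomputable def β (C : Type u) [CommRing C] [Algebra B C] :
    ((Over.pullback (sig B B')).obj (S B C)).left ≅ Spec (CommRingCat.of (B' ⊗[B] C)) :=
  pullbackSymmetry (Spec.map (CommRingCat.ofHom (algebraMap B C))) (sig B B') ≪≫ pullbackSpecIso B B' C

theorem β_left (C : Type u) [CommRing C] [Algebra B C] :
    (β (B' := B') C).hom ≫ Spec.map (CommRingCat.ofHom (algebraMap B' (B' ⊗[B] C))) =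
      pullback.snd (Spec.map (CommRingCat.ofHom (algebraMap B C))) (sig B B') := by
  rw [β, Iso.trans_hom, Category.assoc]
  erw [pullbackSpecIso_hom_fst']
  rw [pullbackSymmetry_hom_comp_fst]

theorem β_right (C : Type u) [CommRing C] [Algebra B C] :
    (β (B' := B') C).hom ≫ Spec.map (CommRingCat.ofHom
        (Algebra.TensorProduct.includeRight : C →ₐ[B] B' ⊗[B] C).toRingHom) =
      pullback.fst (Spec.map (CommRingCat.ofHom (algebraMap B C))) (sig B B') := by
  rw [β, Iso.trans_hom, Category.assoc]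
  erw [pullbackSpecIso_hom_snd]
  rw [pullbackSymmetry_hom_comp_snd]

theorem β_nat {C D : Type u} [CommRing C] [Algebra B C] [CommRing D] [Algebra B D] (φ : C →ₐ[B] D) :
    ((Over.pullback (sig B B')).map (Sm φ)).left ≫ (β C).hom =
      (β D).hom ≫ Spec.map (CommRingCat.ofHom (bmap B B' φ).toRingHom) := by
  rw [← cancel_mono (pullbackSpecIso B B' C).inv]
  apply pullback.hom_ext
  · rw [Category.assoc, Category.assoc, Category.assoc, Category.assoc, pullbackSpecIso_inv_fst']
    have h1 : Spec.map (CommRingCat.ofHom (bmap B B' φ).toRingHom) ≫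
        Spec.map (CommRingCat.ofHom (algebraMap B' (B' ⊗[B] C))) =
        Spec.map (CommRingCat.ofHom (algebraMap B' (B' ⊗[B] D))) := by
      rw [← Spec.map_comp, ← CommRingCat.ofHom_comp]
      exact congrArg (fun u => Spec.map (CommRingCat.ofHom u)) (bmap B B' φ).comp_algebraMap
    have h2 : Spec.map (CommRingCat.ofHom (Algebra.TensorProduct.includeLeftRingHom : B' →+* B' ⊗[B] C)) =
        Spec.map (CommRingCat.ofHom (algebraMap B' (B' ⊗[B] C))) := rfl
    erw [h2]
    rw [h1]
    erw [β_left, β_left]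
    exact pullback.lift_snd _ _ _
  · rw [Category.assoc, Category.assoc, Category.assoc, Category.assoc, pullbackSpecIso_inv_snd]
    have h1 : Spec.map (CommRingCat.ofHom (bmap B B' φ).toRingHom) ≫
        Spec.map (CommRingCat.ofHom (Algebra.TensorProduct.includeRight : C →ₐ[B] B' ⊗[B] C).toRingHom) =
        Spec.map (CommRingCat.ofHom (Algebra.TensorProduct.includeRight : D →ₐ[B] B' ⊗[B] D).toRingHom) ≫
          Spec.map (CommRingCat.ofHom φ.toRingHom) := by
      rw [← Spec.map_comp, ← Spec.map_comp]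
      rfl
    erw [h1]
    erw [β_right]
    rw [reassoc_of% (β_right (B' := B') D)]
    exact pullback.lift_fst _ _ _

/-- The point of `Spec O` attached to a map into a base change. -/
noncomputable def pt {O : Type u} [CommRing O] [Algebra B' O] (C : Type u) [CommRing C] [Algebra B C]
    (ψ : O →ₐ[B'] B' ⊗[B] C) : (Over.pullback (sig B B')).obj (S B C) ⟶ S B' O :=
  Over.homMk ((β C).hom ≫ Spec.map (CommRingCat.ofHom ψ.toRingHom)) (by
    show ((β C).hom ≫ Spec.map _) ≫ Spec.map _ = pullback.snd _ _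
    rw [Category.assoc, ← Spec.map_comp, ← CommRingCat.ofHom_comp]
    exact (congrArg (fun u => (β C).hom ≫ Spec.map (CommRingCat.ofHom u)) ψ.comp_algebraMap).trans (β_left C))

theorem map_pt {O C D : Type u} [CommRing O] [Algebra B' O] [CommRing C] [Algebra B C] [CommRing D] [Algebra B D]
    (φ : C →ₐ[B] D) (ψ : O →ₐ[B'] B' ⊗[B] C) :
    (Over.pullback (sig B B')).map (Sm φ) ≫ pt C ψ = pt D ((bmap B B' φ).comp ψ) := by
  apply Over.OverMorphism.ext
  show ((Over.pullback (sig B B')).map (Sm φ)).left ≫ (β C).hom ≫ Spec.map _ = (β D).hom ≫ Spec.map _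
  rw [reassoc_of% (β_nat φ), ← Spec.map_comp]
  rfl

theorem pt_comp {O O₁ C : Type u} [CommRing O] [Algebra B' O] [CommRing O₁] [Algebra B' O₁] [CommRing C] [Algebra B C]
    (α : O →ₐ[B'] O₁) (ψ : O₁ →ₐ[B'] B' ⊗[B] C) : pt C ψ ≫ Sm α = pt C (ψ.comp α) := by
  apply Over.OverMorphism.ext
  show ((β C).hom ≫ Spec.map _) ≫ Spec.map _ = (β C).hom ≫ Spec.map _
  rw [Category.assoc, ← Spec.map_comp]
  rfl

theorem pt_bijective {O : Type u} [CommRing O] [Algebra B' O] (C : Type u) [CommRing C] [Algebra B C] :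
    Function.Bijective (pt (B := B) (B' := B') (O := O) C) := by
  refine ⟨fun ψ ψ' h => ?_, fun g => ?_⟩
  · have h1 := congrArg CommaMorphism.left h
    change (β C).hom ≫ Spec.map _ = (β C).hom ≫ Spec.map _ at h1
    rw [cancel_epi] at h1
    exact AlgHom.ext fun o =>
      congrArg (fun u : CommRingCat.of O ⟶ CommRingCat.of (B' ⊗[B] C) => u.hom o) (Spec.map_injective h1)
  · obtain ⟨ψ₀, hψ₀⟩ := Spec.map_surjective ((β C).inv ≫ g.left)
    have h : CommRingCat.ofHom (algebraMap B' O) ≫ ψ₀ = CommRingCat.ofHom (algebraMap B' (B' ⊗[B] C)) := by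
      apply Spec.map_injective
      rw [Spec.map_comp, hψ₀, Category.assoc, Iso.inv_comp_eq, β_left]
      exact Over.w g
    let ψ : O →ₐ[B'] B' ⊗[B] C :=
      { toRingHom := ψ₀.hom
        commutes' := fun b => congrArg (fun u : CommRingCat.of B' ⟶ CommRingCat.of (B' ⊗[B] C) => u.hom b) h }
    refine ⟨ψ, Over.OverMorphism.ext ?_⟩
    show (β C).hom ≫ Spec.map ψ₀ = g.left
    rw [hψ₀, Iso.hom_inv_id_assoc]

theorem isIso_of_affine_points {X Y : Scheme.{u}} (f : X ⟶ Y)
    (h : ∀ (A : CommRingCat.{u}) (y : Spec A ⟶ Y), ∃! x, x ≫ f = y) : IsIso f := by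
  have hmono : Mono f := ⟨fun {Z} a b hab => Scheme.Cover.hom_ext Z.affineCover _ _ fun i => by
    obtain ⟨A, hA⟩ : ∃ A : CommRingCat.{u}, Z.affineCover.X i = Spec A := ⟨_, rfl⟩
    rw [← cancel_epi (eqToHom hA.symm)]
    exact (h A (eqToHom hA.symm ≫ Z.affineCover.f i ≫ a ≫ f)).unique (by simp) (by simp [hab])⟩
  have hex : ∀ i, ∃ x : Y.affineCover.X i ⟶ X, x ≫ f = Y.affineCover.f i := fun i => by
    obtain ⟨A, hA⟩ : ∃ A : CommRingCat.{u}, Y.affineCover.X i = Spec A := ⟨_, rfl⟩
    obtain ⟨x, hx, -⟩ := h A (eqToHom hA.symm ≫ Y.affineCover.f i)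
    exact ⟨eqToHom hA ≫ x, by rw [Category.assoc, hx]; simp⟩
  choose x hx using hex
  let s : Y ⟶ X := Y.affineCover.glueMorphisms x fun i k => by
    rw [← cancel_mono f, Category.assoc, Category.assoc, hx, hx, pullback.condition]
  have hs : s ≫ f = 𝟙 Y := Scheme.Cover.hom_ext Y.affineCover _ _ fun i => by
    rw [← Category.assoc, Scheme.Cover.ι_glueMorphisms, hx, Category.comp_id]
  exact ⟨s, by rw [← cancel_mono f, Category.assoc, hs, Category.comp_id, Category.id_comp], hs⟩

theorem projective_of_finite_flat [IsNoetherianRing B] [Module.Finite B B'] [Module.Flat B B'] :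
    Module.Projective B B' := by
  haveI : Module.FinitePresentation B B' := Module.finitePresentation_of_finite B B'
  exact Module.Flat.projective_of_finitePresentation

theorem exists_coord (X' : Over (Spec (CommRingCat.of B'))) [IsAffine X'.left] :
    ∃ (O : Type u) (_ : CommRing O) (_ : Algebra B' O), Nonempty (X' ≅ S B' O) := by
  obtain ⟨φ, hφ⟩ := Spec.map_surjective (X'.left.isoSpec.inv ≫ X'.hom)
  refine ⟨Γ(X'.left, ⊤), inferInstance, φ.hom.toAlgebra, ⟨Over.isoMk X'.left.isoSpec ?_⟩⟩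
  show X'.left.isoSpec.hom ≫ Spec.map φ = X'.hom
  rw [hφ, Iso.hom_inv_id_assoc]

variable [Module.Finite B B'] [Module.Projective B B']

/-- A scheme with the universal property of a Weil restriction is the spectrum of the Weil restricted algebra. -/
theorem exists_rep {X' : Over (Spec (CommRingCat.of B'))} {O : Type u} [CommRing O] [Algebra B' O]
    (iX : X' ≅ S B' O) [Algebra.FinitePresentation B' O]
    (R : Over (Spec (CommRingCat.of B)))
    (e : ∀ Y : Over (Spec (CommRingCat.of B)), (Y ⟶ R) ≃ ((Over.pullback (sig B B')).obj Y ⟶ X'))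
    (he : ∀ (Y Z : Over (Spec (CommRingCat.of B))) (h : Y ⟶ Z) (g : Z ⟶ R),
      e Y (h ≫ g) = (Over.pullback (sig B B')).map h ≫ e Z g) :
    ∃ (Q : Type u) (_ : CommRing Q) (_ : Algebra B Q), Algebra.FinitePresentation B Q ∧
      ∃ univ : O →ₐ[B'] B' ⊗[B] Q, (∀ (C : Type u) [CommRing C] [Algebra B C] (ψ : O →ₐ[B'] B' ⊗[B] C),
        ∃! φ : Q →ₐ[B] C, (bmap B B' φ).comp univ = ψ) ∧
      ∃ iR : R ≅ S B Q, e (S B Q) iR.inv = pt Q univ ≫ iX.inv := by
  obtain ⟨Q, _, _, hQ, univ, hu⟩ := exists_weil_ring B B' O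
  let r : S B Q ⟶ R := (e (S B Q)).symm (pt Q univ ≫ iX.inv)
  have hr : e (S B Q) r = pt Q univ ≫ iX.inv := Equiv.apply_symm_apply _ _
  have hpt : ∀ (C : Type u) [CommRing C] [Algebra B C] (φ : Q →ₐ[B] C),
      e (S B C) (Sm φ ≫ r) = pt C ((bmap B B' φ).comp univ) ≫ iX.inv := fun C _ _ φ => by
    rw [he, hr, ← Category.assoc, map_pt]
  haveI : IsIso r.left := by
    refine isIso_of_affine_points r.left fun A y => ?_
    obtain ⟨χ, hχ⟩ := Spec.map_surjective (y ≫ R.hom)
    letI : Algebra B A := χ.hom.toAlgebra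
    let y' : S B A ⟶ R := Over.homMk y hχ.symm
    obtain ⟨ψ, hψ⟩ := (pt_bijective (B := B) (B' := B') (O := O) A).2 (e (S B A) y' ≫ iX.hom)
    obtain ⟨φ, hφ, hφu⟩ := hu A ψ
    refine ⟨(Sm φ).left, ?_, fun x hx => ?_⟩
    · have h1 : Sm φ ≫ r = y' := by
        apply (e (S B A)).injective
        rw [hpt, hφ, hψ, Category.assoc, Iso.hom_inv_id, Category.comp_id]
      exact congrArg CommaMorphism.left h1
    · let x' : S B A ⟶ S B Q := Over.homMk x (by
        show x ≫ (S B Q).hom = Spec.map χ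
        rw [hχ, ← hx, Category.assoc, Over.w r])
      obtain ⟨φ', hφ'⟩ := exists_eq_Sm x'
      have h1 : Sm φ' ≫ r = y' := by rw [← hφ']; exact Over.OverMorphism.ext hx
      have h2 : pt A ((bmap B B' φ').comp univ) = pt A ψ := by
        rw [← cancel_mono iX.inv, ← hpt, h1, hψ, Category.assoc, Iso.hom_inv_id, Category.comp_id]
      rw [← hφu φ' ((pt_bijective A).1 h2), ← hφ']
      rfl
  haveI : IsIso r := by
    haveI : IsIso ((Over.forget _).map r) := inferInstanceAs (IsIso r.left)
    exact isIso_of_reflects_iso r (Over.forget _)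
  exact ⟨Q, inferInstance, inferInstance, hQ, univ, hu, (asIso r).symm, hr⟩

end Groth.Agent.WeilAff
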